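import Groth.Agent.Lib.Lead.KS.Top
import Groth.Agent.Lib.Lead.SC.SerreCrit

/-! # Cohomological consequences of an exact Koszul system. -/

universe u
open CategoryTheory Limits AlgebraicGeometry TopologicalSpace Opposite ZeroObject

namespace Groth.Agent.LD.CL

variable {X : Scheme.{u}}

theorem subsingleton_HH_of_isZero {Z : X.Modules} (hZ : IsZero Z) (i : ℕ) :
    Subsingleton (Coh.HH X Z i) := by
  refine ⟨fun a b => ?_⟩
  have key : ∀ z : Coh.HH X Z i, z = 0 := by
    intro z
    have h : (𝟙 Z : Z ⟶ Z) = 0 := hZ.eq_of_src _ _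
    rw [← HHmapZ_id Z i z, h, HHmapZ_zero]
  rw [key a, key b]

theorem subsingleton_HH_of_retract {M N : X.Modules} (s : M ⟶ N) (r : N ⟶ M) (h : s ≫ r = 𝟙 M)
    (i : ℕ) (hN : Subsingleton (Coh.HH X N i)) : Subsingleton (Coh.HH X M i) := by
  refine ⟨fun a b => ?_⟩
  have key : ∀ z : Coh.HH X M i, z = 0 := by
    intro z
    rw [← HHmapZ_id M i z, ← h, HHmapZ_comp, hN.elim (HHmapZ s i z) 0, map_zero]
  rw [key a, key b]

theorem subsingleton_HH_biprod (A B : X.Modules) (i : ℕ) (hA : Subsingleton (Coh.HH X A i))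
    (hB : Subsingleton (Coh.HH X B i)) : Subsingleton (Coh.HH X (A ⊞ B) i) := by
  refine ⟨fun a b => ?_⟩
  have key : ∀ z : Coh.HH X (A ⊞ B) i, z = 0 := by
    intro z
    rw [← HHmapZ_id (A ⊞ B) i z, ← biprod.total, HHmapZ_add, HHmapZ_comp, HHmapZ_comp,
      hA.elim (HHmapZ biprod.fst i z) 0, hB.elim (HHmapZ biprod.snd i z) 0, map_zero, map_zero,
      add_zero]
  rw [key a, key b]

end Groth.Agent.LD.CL

namespace Groth.Agent.LD.KS

open QC

variable {X : Scheme.{u}}

section Chase
variable (K : ℤ → X.Modules) (d : ∀ p, K p ⟶ K (p+1)) (dd : ∀ p, d p ≫ d (p+1) = 0)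
  (hex : ∀ p, (ShortComplex.mk (d p) (d (p+1)) (dd p)).Exact)

include hex in
theorem vanish_step (q' q : ℤ) (h : q' + 1 = q) (s : ℕ)
    (h1 : Subsingleton (Coh.HH X (K q') s))
    (h2 : Subsingleton (Coh.HH X (kernel (d q')) (s+1))) :
    Subsingleton (Coh.HH X (kernel (d q)) s) := by
  subst h
  exact CL.subsingleton_right (shortExact_kernel_lift (d q') (d (q'+1)) (dd q') (hex q')) s h1 h2

include hex in
/-- the chase: vanishing of the cohomology of the cycles. -/
theorem chase_vanish (N : ℕ)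
    (hN : ∀ (p : ℤ) (i : ℕ), N < i → Subsingleton (Coh.HH X (kernel (d p)) i)) :
    ∀ (m s : ℕ) (q : ℤ), N < s + m →
      (∀ (j : ℕ) (r : ℤ) (t : ℕ), r + 1 + j = q → t = s + j → Subsingleton (Coh.HH X (K r) t)) →
      Subsingleton (Coh.HH X (kernel (d q)) s) := by
  intro m
  induction m with
  | zero =>
    intro s q hs _
    exact hN q s (by omega)
  | succ m ih =>
    intro s q hs hv
    refine vanish_step K d dd hex (q - 1) q (by ring) s (hv 0 (q - 1) s (by simp) (by simp)) ?_
    refine ih (s + 1) (q - 1) (by omega) (fun j r t hr ht => ?_)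
    exact hv (j + 1) r t (by push_cast; omega) (by omega)

end Chase

namespace Base
variable {ι : Type} (B : Base X ι) (L : List ι)
  (hex : ∀ e p : ℤ, (ShortComplex.mk ((B.koszul L).d e p) ((B.koszul L).d e (p+1))
    ((B.koszul L).dd e p)).Exact)
  (N : ℕ) (hN : ∀ (e p : ℤ) (i : ℕ), N < i →
    Subsingleton (Coh.HH X (kernel ((B.koszul L).d e p)) i))

include hex hN in
/-- vanishing of the cohomology of the cycles of the Koszul system. -/
theorem koszul_cycles_vanish (s : ℕ) (g q : ℤ)
    (hv : ∀ (j : ℕ) (e' : ℤ), e' + 1 + j = g + q → Subsingleton (Coh.HH X (B.G e') (s + j))) :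
    Subsingleton (Coh.HH X (kernel ((B.koszul L).d (g - L.length) q)) s) := by
  refine chase_vanish (fun p => (B.koszul L).K (g - L.length) p)
    (fun p => (B.koszul L).d (g - L.length) p) (fun p => (B.koszul L).dd (g - L.length) p)
    (fun p => hex (g - L.length) p) N (fun p i hi => hN (g - L.length) p i hi) (N + 1) s q
    (by omega) (fun j r t hr ht => ?_)
  subst ht
  apply B.koszul_prop (fun M => Subsingleton (Coh.HH X M (s + j)))
    (fun Z hZ => CL.subsingleton_HH_of_isZero hZ _)
    (fun A C hA hC => CL.subsingleton_HH_biprod A C _ hA hC) L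
  intro e' he'
  apply hv j e'
  rw [he']
  linarith

include hex hN in
/-- **vanishing from the Koszul system**: `H^s(G g) = 0` as soon as `H^{s+j}(G (g-1-j)) = 0` for
all `j ≥ 0`. -/
theorem koszul_vanish (s : ℕ) (g : ℤ)
    (hv : ∀ j : ℕ, ∀ e' : ℤ, e' + 1 + j = g → Subsingleton (Coh.HH X (B.G e') (s + j))) :
    Subsingleton (Coh.HH X (B.G g) s) := by
  have h0 := B.koszul_cycles_vanish L hex N hN s g 0
    (fun j e' he' => hv j e' (by rw [he']; ring))
  have hz1 : IsZero ((B.koszul L).K (g - L.length) (0+1)) :=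
    B.koszul_isZero L _ _ (Or.inl (by norm_num))
  have hz2 : IsZero (kernel ((B.koszul L).d (g - L.length) (0+1))) :=
    IsZero.of_mono (kernel.ι _) hz1
  have hK0 : Subsingleton (Coh.HH X ((B.koszul L).K (g - L.length) 0) s) :=
    CL.subsingleton_mid (shortExact_kernel_lift _ _ ((B.koszul L).dd (g - L.length) 0)
      (hex (g - L.length) 0)) s h0 (CL.subsingleton_HH_of_isZero hz2 s)
  exact CL.subsingleton_HH_of_retract (B.topInv L (g - L.length) 0 rfl g (by ring))
    (B.topMap L (g - L.length) 0 rfl g (by ring)) (B.topInv_topMap L _ 0 rfl g (by ring)) s hK0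

include hex hN in
/-- **generation from the Koszul system**: every global section of `G g` is a sum of images of
global sections of `G (g-1)` under the operators, as soon as `H^{1+j}(G (g-2-j)) = 0` for all
`j ≥ 0`. -/
theorem koszul_surj (g : ℤ)
    (hv : ∀ j : ℕ, ∀ e' : ℤ, e' + 2 + j = g → Subsingleton (Coh.HH X (B.G e') (1 + j)))
    (x : Γ(B.G g, ⊤)) : x ∈ B.imgT g ⊤ := by
  have hp : (-1 : ℤ) + 1 = 0 := by norm_num
  have h1 := B.koszul_cycles_vanish L hex N hN 1 g (-1)
    (fun j e' he' => hv j e' (by linarith))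
  have hS := shortExact_kernel_lift _ _ ((B.koszul L).dd (g - L.length) (-1))
    (hex (g - L.length) (-1))
  have hsurj := SC.surjective_app_top_of_h1Zero hS (SC.h1Zero_of_HH _ h1)
  have hg : g = g - L.length + L.length := by ring
  set y := (B.topInv L (g - L.length) (-1+1) hp g hg).app ⊤ x with hy
  have hz : IsZero ((B.koszul L).K (g - L.length) (-1+1+1)) :=
    B.koszul_isZero L _ _ (Or.inl (by norm_num))
  have hdy : ((B.koszul L).d (g - L.length) (-1+1)).app ⊤ y = 0 :=
    section_eq_zero_of_isZero _ hz _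
  obtain ⟨y', hy'⟩ := exists_kernel_section _ ⊤ y hdy
  obtain ⟨a, ha⟩ := hsurj y'
  have hda : ((B.koszul L).d (g - L.length) (-1)).app ⊤ a = y := by
    rw [← hy', ← ha, ← comp_app']
    change _ = (kernel.lift ((B.koszul L).d (g - L.length) (-1+1))
      ((B.koszul L).d (g - L.length) (-1)) _ ≫ kernel.ι _).app ⊤ a
    rw [kernel.lift_ι]
  have hx : x = (B.topMap L (g - L.length) (-1+1) hp g hg).app ⊤ y := by
    rw [hy, ← comp_app', B.topInv_topMap]
    rfl
  rw [hx, ← hda]
  exact B.topMap_d_mem L (g - L.length) (-1) hp g hg ⊤ a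

end Base

end Groth.Agent.LD.KS
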