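import Groth.Agent.Lib.Lead.KS.Koszul

/-! # The terms of the Koszul system are finite coproducts of members of the family. -/

universe u
open CategoryTheory Limits AlgebraicGeometry TopologicalSpace Opposite ZeroObject

namespace Groth.Agent.LD.KS

variable {C : Type*} [Category C] [Preadditive C] [HasBinaryBiproducts C] [HasFiniteCoproducts C]

/-- `(∐_{Fin a} M) ⊞ (∐_{Fin b} M) ≅ ∐_{Fin (a+b)} M`. -/
noncomputable def sigmaFinAdd (M : C) (a b : ℕ) :
    (∐ fun _ : Fin a => M) ⊞ (∐ fun _ : Fin b => M) ≅ ∐ fun _ : Fin (a+b) => M where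
  hom := biprod.desc (Sigma.desc (fun i => Sigma.ι (fun _ : Fin (a+b) => M) (Fin.castAdd b i)))
    (Sigma.desc (fun j => Sigma.ι (fun _ : Fin (a+b) => M) (Fin.natAdd a j)))
  inv := Sigma.desc (fun k => Fin.addCases
    (motive := fun _ => M ⟶ (∐ fun _ : Fin a => M) ⊞ (∐ fun _ : Fin b => M))
    (fun i => Sigma.ι (fun _ : Fin a => M) i ≫ biprod.inl)
    (fun j => Sigma.ι (fun _ : Fin b => M) j ≫ biprod.inr) k)
  hom_inv_id := by
    apply biprod.hom_ext'
    · apply Sigma.hom_ext
      intro i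
      simp
    · apply Sigma.hom_ext
      intro j
      simp
  inv_hom_id := by
    apply Sigma.hom_ext
    intro k
    refine Fin.addCases (fun i => ?_) (fun j => ?_) k
    · simp
    · simp

/-- `Z ⊞ A ≅ A` for a zero object `Z`. -/
noncomputable def zeroBiprodIso {Z : C} (hZ : IsZero Z) (A : C) : Z ⊞ A ≅ A where
  hom := biprod.snd
  inv := biprod.inr
  hom_inv_id := by
    apply biprod.hom_ext'
    · exact hZ.eq_of_src _ _
    · simp
  inv_hom_id := by simp

lemma isZero_sigma_fin_zero (M : C) : IsZero (∐ fun _ : Fin 0 => M) := by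
  rw [IsZero.iff_id_eq_zero]
  apply Sigma.hom_ext
  intro j
  exact j.elim0

/-- `M ≅ ∐_{Fin 1} M`. -/
noncomputable def sigmaFinOne (M : C) : M ≅ ∐ fun _ : Fin 1 => M where
  hom := Sigma.ι (fun _ : Fin 1 => M) 0
  inv := Sigma.desc (fun _ => 𝟙 M)
  hom_inv_id := by simp
  inv_hom_id := by
    apply Sigma.hom_ext
    intro j
    obtain rfl : j = 0 := Subsingleton.elim _ _
    simp


/-- reindexing along an equality of cardinalities. -/
noncomputable def sigmaFinCongr (M : C) {a b : ℕ} (h : a = b) :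
    (∐ fun _ : Fin a => M) ≅ ∐ fun _ : Fin b => M := by
  subst h
  exact Iso.refl _

namespace Base

variable {X : Scheme.{u}} {ι : Type} (B : Base X ι)

/-- **the terms of the Koszul system**: `K e (-j) ≅ G(e + |L| - j)^{binom(|L|, j)}`. -/
theorem koszul_terms (L : List ι) : ∀ (e : ℤ) (j : ℕ) (p g : ℤ), p = -(j : ℤ) →
    g = e + L.length - j →
    Nonempty ((B.koszul L).K e p ≅ ∐ fun _ : Fin (Nat.choose L.length j) => B.G g) := by
  induction L with
  | nil =>
    intro e j p g hp hg
    cases j with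
    | zero =>
      obtain rfl : p = 0 := by simpa using hp
      obtain rfl : g = e := by simpa using hg
      exact ⟨sigmaFinOne (B.G g)⟩
    | succ j =>
      have hz : IsZero ((B.koszul []).K e p) := B.K0_isZero e p (by rw [hp]; push_cast; omega)
      exact ⟨hz.iso (isZero_sigma_fin_zero (B.G g))⟩
  | cons l L ih =>
    intro e j p g hp hg
    rw [List.length_cons] at hg
    push_cast at hg
    cases j with
    | zero =>
      obtain rfl : p = 0 := by simpa using hp
      have hz : IsZero ((B.koszul L).K e (0+1)) := B.koszul_isZero L e (0+1) (Or.inl (by norm_num))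
      obtain ⟨φ⟩ := ih (e+1) 0 0 g (by simp) (by rw [hg]; push_cast; ring)
      exact ⟨zeroBiprodIso hz _ ≪≫ φ ≪≫ sigmaFinCongr (B.G g)
        ((Nat.choose_zero_right _).trans (Nat.choose_zero_right _).symm)⟩
    | succ j =>
      obtain ⟨φ₁⟩ := ih e j (p+1) g (by rw [hp]; push_cast; ring) (by rw [hg]; push_cast; ring)
      obtain ⟨φ₂⟩ := ih (e+1) (j+1) p g hp (by rw [hg]; push_cast; ring)
      exact ⟨biprod.mapIso φ₁ φ₂ ≪≫ sigmaFinAdd (B.G g) _ _ ≪≫ sigmaFinCongr (B.G g)
        (Nat.choose_succ_succ _ _).symm⟩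

end Base

end Groth.Agent.LD.KS
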