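import Groth.Agent.Lib.Lead.QC.BiprodSec

/-! # Koszul systems: iterated cones of commuting degree-one operators on a graded family of
modules, and their local exactness. -/

universe u
open CategoryTheory Limits AlgebraicGeometry TopologicalSpace Opposite ZeroObject

namespace Groth.Agent.LD.KS

open QC

variable {X : Scheme.{u}} {ι : Type}

/-- a family of complexes `K e •` (cohomological indexing), with commuting operators
`T l : K e • ⟶ K (e+1) •`. -/
structure KSys (X : Scheme.{u}) (ι : Type) where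
  K : ℤ → ℤ → X.Modules
  d : ∀ e p, K e p ⟶ K e (p+1)
  T : ι → ∀ e p, K e p ⟶ K (e+1) p
  dd : ∀ e p, d e p ≫ d e (p+1) = 0
  Td : ∀ l e p, T l e p ≫ d (e+1) p = d e p ≫ T l e (p+1)
  TT : ∀ l m e p, T l e p ≫ T m (e+1) p = T m e p ≫ T l (e+1) p

/-- the cone of the operator `T k`. -/
noncomputable def KSys.cone (S : KSys X ι) (k : ι) : KSys X ι where
  K e p := S.K e (p+1) ⊞ S.K (e+1) p
  d e p := biprod.lift (biprod.fst ≫ (-(S.d e (p+1))))
    (biprod.fst ≫ S.T k e (p+1) + biprod.snd ≫ S.d (e+1) p)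
  T l e p := biprod.map (S.T l e (p+1)) (S.T l (e+1) p)
  dd e p := by
    apply biprod.hom_ext
    · simp [S.dd]
    · simp [S.dd, S.Td]
  Td l e p := by
    apply biprod.hom_ext
    · simp [S.Td]
    · simp [S.Td, S.TT]
  TT l m e p := by
    apply biprod.hom_ext
    · simp [S.TT]
    · simp [S.TT]

section ConeSections
variable (S : KSys X ι) (k : ι) (e p : ℤ) (W : X.Opens)

lemma cone_d_fst (t : Γ((S.cone k).K e p, W)) :
    (biprod.fst : S.K e (p+1+1) ⊞ S.K (e+1) (p+1) ⟶ _).app W (((S.cone k).d e p).app W t) =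
      -((S.d e (p+1)).app W ((biprod.fst : S.K e (p+1) ⊞ S.K (e+1) p ⟶ _).app W t)) := by
  change (((S.cone k).d e p) ≫ biprod.fst).app W t = _
  have h : (S.cone k).d e p ≫ biprod.fst = biprod.fst ≫ (-(S.d e (p+1))) := biprod.lift_fst _ _
  rw [h]
  rfl

lemma cone_d_snd (t : Γ((S.cone k).K e p, W)) :
    (biprod.snd : S.K e (p+1+1) ⊞ S.K (e+1) (p+1) ⟶ _).app W (((S.cone k).d e p).app W t) =
      (S.T k e (p+1)).app W ((biprod.fst : S.K e (p+1) ⊞ S.K (e+1) p ⟶ _).app W t) +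
        (S.d (e+1) p).app W ((biprod.snd : S.K e (p+1) ⊞ S.K (e+1) p ⟶ _).app W t) := by
  change (((S.cone k).d e p) ≫ biprod.snd).app W t = _
  have h : (S.cone k).d e p ≫ biprod.snd =
      biprod.fst ≫ S.T k e (p+1) + biprod.snd ≫ S.d (e+1) p := biprod.lift_snd _ _
  rw [h]
  rfl

lemma cone_T_fst (l : ι) (t : Γ((S.cone k).K e p, W)) :
    (biprod.fst : S.K (e+1) (p+1) ⊞ S.K (e+1+1) p ⟶ _).app W (((S.cone k).T l e p).app W t) =
      (S.T l e (p+1)).app W ((biprod.fst : S.K e (p+1) ⊞ S.K (e+1) p ⟶ _).app W t) := by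
  change (((S.cone k).T l e p) ≫ biprod.fst).app W t = _
  have h : (S.cone k).T l e p ≫ biprod.fst = biprod.fst ≫ S.T l e (p+1) := biprod.map_fst _ _
  rw [h]
  rfl

lemma cone_T_snd (l : ι) (t : Γ((S.cone k).K e p, W)) :
    (biprod.snd : S.K (e+1) (p+1) ⊞ S.K (e+1+1) p ⟶ _).app W (((S.cone k).T l e p).app W t) =
      (S.T l (e+1) p).app W ((biprod.snd : S.K e (p+1) ⊞ S.K (e+1) p ⟶ _).app W t) := by
  change (((S.cone k).T l e p) ≫ biprod.snd).app W t = _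
  have h : (S.cone k).T l e p ≫ biprod.snd = biprod.snd ≫ S.T l (e+1) p := biprod.map_snd _ _
  rw [h]
  rfl

lemma cone_d_zero (t : Γ((S.cone k).K e p, W)) (ht : ((S.cone k).d e p).app W t = 0) :
    (S.d e (p+1)).app W ((biprod.fst : S.K e (p+1) ⊞ S.K (e+1) p ⟶ _).app W t) = 0 ∧
    (S.T k e (p+1)).app W ((biprod.fst : S.K e (p+1) ⊞ S.K (e+1) p ⟶ _).app W t) +
        (S.d (e+1) p).app W ((biprod.snd : S.K e (p+1) ⊞ S.K (e+1) p ⟶ _).app W t) = 0 := by
  constructor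
  · have h1 := cone_d_fst S k e p W t
    have h2 : (biprod.fst : S.K e (p+1+1) ⊞ S.K (e+1) (p+1) ⟶ _).app W
        (((S.cone k).d e p).app W t) = 0 :=
      (congrArg (fun z => (biprod.fst : S.K e (p+1+1) ⊞ S.K (e+1) (p+1) ⟶ _).app W z) ht).trans
        (map_zero _)
    have h3 := h1.symm.trans h2
    rwa [neg_eq_zero] at h3
  · have h1 := cone_d_snd S k e p W t
    have h2 : (biprod.snd : S.K e (p+1+1) ⊞ S.K (e+1) (p+1) ⟶ _).app W
        (((S.cone k).d e p).app W t) = 0 :=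
      (congrArg (fun z => (biprod.snd : S.K e (p+1+1) ⊞ S.K (e+1) (p+1) ⟶ _).app W z) ht).trans
        (map_zero _)
    exact h1.symm.trans h2

end ConeSections

/-- `T l` is bijective on sections over opens inside `V`. -/
def KSys.TB (S : KSys X ι) (l : ι) (V : X.Opens) : Prop :=
  ∀ (e p : ℤ) (W : X.Opens), W ≤ V → Function.Bijective ((S.T l e p).app W)

/-- local exactness over `V`. -/
def KSys.LE (S : KSys X ι) (V : X.Opens) : Prop :=
  ∀ (e p : ℤ) (W : X.Opens), W ≤ V → ∀ t : Γ(S.K e (p+1), W), (S.d e (p+1)).app W t = 0 →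
    ∀ x : X, x ∈ W → ∃ (W' : X.Opens) (hW' : W' ≤ W), x ∈ W' ∧ ∃ s : Γ(S.K e p, W'),
      (S.d e p).app W' s = (S.K e (p+1)).presheaf.map (homOfLE hW').op t

theorem KSys.TB.cone {S : KSys X ι} {l : ι} {V : X.Opens} (h : S.TB l V) (k : ι) :
    (S.cone k).TB l V := by
  intro e p W hW
  have h1 := h e (p+1) W hW
  have h2 := h (e+1) p W hW
  constructor
  · intro t t' htt
    apply bext
    · apply h1.1
      rw [← cone_T_fst, ← cone_T_fst, htt]
    · apply h2.1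
      rw [← cone_T_snd, ← cone_T_snd, htt]
  · intro u
    obtain ⟨a, ha⟩ := h1.2 ((biprod.fst : S.K (e+1) (p+1) ⊞ S.K (e+1+1) p ⟶ _).app W u)
    obtain ⟨b, hb⟩ := h2.2 ((biprod.snd : S.K (e+1) (p+1) ⊞ S.K (e+1+1) p ⟶ _).app W u)
    refine ⟨bmk _ _ W a b, ?_⟩
    apply bext
    · rw [cone_T_fst, bfst_bmk, ha]
    · rw [cone_T_snd, bsnd_bmk, hb]

lemma Td_app (S : KSys X ι) (l : ι) (e p : ℤ) (W : X.Opens) (a : Γ(S.K e p, W)) :
    (S.d (e+1) p).app W ((S.T l e p).app W a) = (S.T l e (p+1)).app W ((S.d e p).app W a) := by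
  rw [← comp_app', ← comp_app', S.Td]

lemma dd_app (S : KSys X ι) (e p : ℤ) (W : X.Opens) (a : Γ(S.K e p, W)) :
    (S.d e (p+1)).app W ((S.d e p).app W a) = 0 := by
  rw [← comp_app', S.dd]
  rfl

/-- the cone of an operator which is bijective on sections is locally exact. -/
theorem KSys.LE_cone_of_TB {S : KSys X ι} {k : ι} {V : X.Opens} (h : S.TB k V) :
    (S.cone k).LE V := by
  intro e p W hW t ht x hx
  obtain ⟨hfst, hsnd⟩ := cone_d_zero S k e (p+1) W t ht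
  obtain ⟨a', ha'⟩ := (h e (p+1) W hW).2
    ((biprod.snd : S.K e (p+1+1) ⊞ S.K (e+1) (p+1) ⟶ _).app W t)
  refine ⟨W, le_rfl, hx, bmk _ _ W a' 0, ?_⟩
  rw [res_self]
  apply bext
  · rw [cone_d_fst, bfst_bmk]
    apply (h e (p+1+1) W hW).1
    rw [map_neg, ← Td_app, ha']
    have h3 := eq_neg_of_add_eq_zero_left hsnd
    rw [h3]
  · rw [cone_d_snd, bfst_bmk, bsnd_bmk, map_zero, add_zero, ha']

/-- the cone of an operator on a locally exact system is locally exact. -/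
theorem KSys.LE.cone {S : KSys X ι} {V : X.Opens} (h : S.LE V) (k : ι) :
    (S.cone k).LE V := by
  intro e p W hW t ht x hx
  obtain ⟨hda, hsnd⟩ := cone_d_zero S k e (p+1) W t ht
  set a := (biprod.fst : S.K e (p+1+1) ⊞ S.K (e+1) (p+1) ⟶ _).app W t with ha
  set b := (biprod.snd : S.K e (p+1+1) ⊞ S.K (e+1) (p+1) ⟶ _).app W t with hb
  obtain ⟨W₁, hW₁, hxW₁, a₁, ha₁⟩ := h e (p+1) W hW a hda x hx
  have hc : (S.d (e+1) (p+1)).app W₁ ((S.K (e+1) (p+1)).presheaf.map (homOfLE hW₁).op b +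
      (S.T k e (p+1)).app W₁ a₁) = 0 := by
    rw [map_add, Td_app, ha₁, app_res, app_res, ← map_add]
    have h4 : (S.d (e+1) (p+1)).app W b + (S.T k e (p+1+1)).app W a = 0 :=
      (add_comm _ _).trans hsnd
    rw [h4, map_zero]
  obtain ⟨W₂, hW₂, hxW₂, b', hb'⟩ := h (e+1) p W₁ (hW₁.trans hW) _ hc x hxW₁
  refine ⟨W₂, hW₂.trans hW₁, hxW₂,
    bmk _ _ W₂ (-((S.K e (p+1)).presheaf.map (homOfLE hW₂).op a₁)) b', ?_⟩
  have hR1 : (biprod.fst : S.K e (p+1+1) ⊞ S.K (e+1) (p+1) ⟶ _).app W₂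
      (((S.cone k).K e (p+1)).presheaf.map (homOfLE (hW₂.trans hW₁)).op t) =
      (S.K e (p+1+1)).presheaf.map (homOfLE (hW₂.trans hW₁)).op a :=
    app_res (biprod.fst : S.K e (p+1+1) ⊞ S.K (e+1) (p+1) ⟶ _) _ t
  have hR2 : (biprod.snd : S.K e (p+1+1) ⊞ S.K (e+1) (p+1) ⟶ _).app W₂
      (((S.cone k).K e (p+1)).presheaf.map (homOfLE (hW₂.trans hW₁)).op t) =
      (S.K (e+1) (p+1)).presheaf.map (homOfLE (hW₂.trans hW₁)).op b :=
    app_res (biprod.snd : S.K e (p+1+1) ⊞ S.K (e+1) (p+1) ⟶ _) _ t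
  apply bext
  · rw [cone_d_fst, bfst_bmk, map_neg, neg_neg, app_res, ha₁, res_res]
    exact hR1.symm
  · rw [cone_d_snd, bfst_bmk, bsnd_bmk, hb', map_neg, map_add, app_res, res_res]
    refine Eq.trans ?_ hR2.symm
    abel

end Groth.Agent.LD.KS
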