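import Groth.Agent.Lib.Lead.KS.Basic
import Groth.Agent.Lib.Lead.QC.SuppPullback

/-! # The Koszul system of a graded family of modules with commuting operators. -/

universe u
open CategoryTheory Limits AlgebraicGeometry TopologicalSpace Opposite ZeroObject

namespace Groth.Agent.LD.KS

open QC

variable {X : Scheme.{u}} {ι : Type}

/-- a graded family of modules with commuting degree-one operators. -/
structure Base (X : Scheme.{u}) (ι : Type) where
  G : ℤ → X.Modules
  t : ι → ∀ e, G e ⟶ G (e+1)
  tt : ∀ l m e, t l e ≫ t m (e+1) = t m e ≫ t l (e+1)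

namespace Base
variable (B : Base X ι)

/-- the family, as complexes concentrated in degree `0`. -/
noncomputable def K0 (e : ℤ) : ℤ → X.Modules
  | Int.ofNat 0 => B.G e
  | Int.ofNat (_+1) => 0
  | Int.negSucc _ => 0

noncomputable def T0 (l : ι) (e : ℤ) : ∀ p, B.K0 e p ⟶ B.K0 (e+1) p
  | Int.ofNat 0 => B.t l e
  | Int.ofNat (_+1) => 0
  | Int.negSucc _ => 0

lemma K0_isZero (e p : ℤ) (hp : p ≠ 0) : IsZero (B.K0 e p) := by
  match p, hp with
  | Int.ofNat 0, hp => exact absurd rfl hp
  | Int.ofNat (_+1), _ => exact isZero_zero _
  | Int.negSucc _, _ => exact isZero_zero _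

noncomputable def sys : KSys X ι where
  K := B.K0
  d e p := 0
  T := B.T0
  dd e p := by simp
  Td l e p := by simp
  TT l m e p := by
    match p with
    | Int.ofNat 0 => exact B.tt l m e
    | Int.ofNat (_+1) => exact (isZero_zero _).eq_of_src _ _
    | Int.negSucc _ => exact (isZero_zero _).eq_of_src _ _

/-- the Koszul system on a list of operators. -/
noncomputable def koszul : List ι → KSys X ι
  | [] => B.sys
  | l :: L => (koszul L).cone l

lemma sys_TB (l : ι) (V : X.Opens)
    (hbij : ∀ (e : ℤ) (W : X.Opens), W ≤ V → Function.Bijective ((B.t l e).app W)) :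
    B.sys.TB l V := by
  intro e p W hW
  match p with
  | Int.ofNat 0 => exact hbij e W hW
  | Int.ofNat (_+1) =>
    refine ⟨fun a b _ => ?_, fun b => ⟨0, ?_⟩⟩
    · rw [section_eq_zero_of_isZero _ (isZero_zero _) a,
        section_eq_zero_of_isZero _ (isZero_zero _) b]
    · exact (map_zero _).trans (section_eq_zero_of_isZero _ (isZero_zero _) b).symm
  | Int.negSucc _ =>
    refine ⟨fun a b _ => ?_, fun b => ⟨0, ?_⟩⟩
    · rw [section_eq_zero_of_isZero _ (isZero_zero _) a,
        section_eq_zero_of_isZero _ (isZero_zero _) b]
    · exact (map_zero _).trans (section_eq_zero_of_isZero _ (isZero_zero _) b).symm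

lemma koszul_TB (l : ι) (V : X.Opens)
    (hbij : ∀ (e : ℤ) (W : X.Opens), W ≤ V → Function.Bijective ((B.t l e).app W)) (L : List ι) :
    (B.koszul L).TB l V := by
  induction L with
  | nil => exact B.sys_TB l V hbij
  | cons m L ih => exact ih.cone m

lemma koszul_LE (l : ι) (V : X.Opens)
    (hbij : ∀ (e : ℤ) (W : X.Opens), W ≤ V → Function.Bijective ((B.t l e).app W)) (L : List ι)
    (hl : l ∈ L) : (B.koszul L).LE V := by
  induction L with
  | nil => exact absurd hl (List.not_mem_nil)
  | cons m L ih =>
    by_cases hm : m = l
    · subst hm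
      exact KSys.LE_cone_of_TB (B.koszul_TB m V hbij L)
    · have : l ∈ L := by
        rcases List.mem_cons.1 hl with h | h
        · exact absurd h.symm hm
        · exact h
      exact (ih this).cone m

/-- **exactness of the Koszul system**: if every point has a neighbourhood on which one of the
operators of the list is bijective on sections, then the Koszul complexes are exact. -/
theorem koszul_exact (L : List ι) (D : ι → X.Opens) (hcov : ∀ x : X, ∃ l ∈ L, x ∈ D l)
    (hbij : ∀ (l : ι) (e : ℤ) (W : X.Opens), W ≤ D l → Function.Bijective ((B.t l e).app W))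
    (e p : ℤ) :
    (ShortComplex.mk ((B.koszul L).d e p) ((B.koszul L).d e (p+1)) ((B.koszul L).dd e p)).Exact := by
  apply exact_of_local
  intro U t ht x hx
  obtain ⟨l, hl, hxl⟩ := hcov x
  have hLE := B.koszul_LE l (D l) (hbij l) L hl
  have ht' : ((B.koszul L).d e (p+1)).app (U ⊓ D l)
      (((B.koszul L).K e (p+1)).presheaf.map (homOfLE (inf_le_left : U ⊓ D l ≤ U)).op t) = 0 := by
    rw [app_res]
    exact (congrArg _ ht).trans (map_zero _)
  obtain ⟨W', hW', hxW', s, hs⟩ := hLE e p (U ⊓ D l) inf_le_right _ ht' x ⟨hx, hxl⟩
  refine ⟨W', hW'.trans inf_le_left, hxW', s, ?_⟩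
  rw [hs, res_res]

/-- a property of modules, stable under biproducts and holding for zero objects, holds for the
terms of the Koszul system as soon as it holds for the relevant members of the family. -/
theorem koszul_prop (P : X.Modules → Prop) (hzero : ∀ Z : X.Modules, IsZero Z → P Z)
    (hbi : ∀ A C : X.Modules, P A → P C → P (A ⊞ C)) (L : List ι) :
    ∀ (e p : ℤ), (∀ e' : ℤ, e' = e + L.length + p → P (B.G e')) → P ((B.koszul L).K e p) := by
  induction L with
  | nil =>
    intro e p h
    by_cases hp : p = 0
    · subst hp
      exact h e (by simp)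
    · exact hzero _ (B.K0_isZero e p hp)
  | cons m L ih =>
    intro e p h
    apply hbi
    · apply ih
      intro e' he'
      apply h
      rw [he', List.length_cons]
      push_cast
      ring
    · apply ih
      intro e' he'
      apply h
      rw [he', List.length_cons]
      push_cast
      ring

/-- the terms of the Koszul system vanish outside the range `[-length, 0]`. -/
theorem koszul_isZero (L : List ι) :
    ∀ (e p : ℤ), (0 < p ∨ p < -(L.length : ℤ)) → IsZero ((B.koszul L).K e p) := by
  induction L with
  | nil =>
    intro e p hp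
    apply B.K0_isZero
    rcases hp with h | h
    · omega
    · simp at h; omega
  | cons m L ih =>
    intro e p hp
    have h1 : IsZero ((B.koszul L).K e (p+1)) := by
      apply ih
      rcases hp with h | h
      · left; omega
      · right; rw [List.length_cons] at h; push_cast at h; omega
    have h2 : IsZero ((B.koszul L).K (e+1) p) := by
      apply ih
      rcases hp with h | h
      · left; omega
      · right; rw [List.length_cons] at h; push_cast at h; omega
    rw [IsZero.iff_id_eq_zero]
    apply biprod.hom_ext
    · exact h1.eq_of_tgt _ _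
    · exact h2.eq_of_tgt _ _

end Base

end Groth.Agent.LD.KS
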