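import Groth.Agent.Lib.Lead.KS.Koszul

/-! # The top term of the Koszul system and the image of the last differential. -/

universe u
open CategoryTheory Limits AlgebraicGeometry TopologicalSpace Opposite ZeroObject

namespace Groth.Agent.LD.KS

open QC

variable {X : Scheme.{u}} {ι : Type}

namespace Base
variable (B : Base X ι)

/-- the operator `t l`, with a flexible target index. -/
noncomputable def tE (l : ι) (e e' : ℤ) (h : e' = e + 1) : B.G e ⟶ B.G e' :=
  B.t l e ≫ eqToHom (by rw [h])

lemma tE_rfl (l : ι) (e : ℤ) : B.tE l e (e+1) rfl = B.t l e := by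
  simp [tE]

/-- the projection of the degree-zero term of the Koszul system onto the top member of the
family. -/
noncomputable def topMap : ∀ (L : List ι) (e q : ℤ) (_ : q = 0) (g : ℤ) (_ : g = e + L.length),
    (B.koszul L).K e q ⟶ B.G g
  | [], e, q, hq, g, hg => eqToHom (by subst hq; simp at hg; subst hg; rfl)
  | _ :: L, e, q, hq, g, hg => biprod.snd ≫ topMap L (e+1) q hq g
      (by rw [hg, List.length_cons]; push_cast; ring)

/-- the inclusion of the top member of the family in the degree-zero term. -/
noncomputable def topInv : ∀ (L : List ι) (e q : ℤ) (_ : q = 0) (g : ℤ) (_ : g = e + L.length),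
    B.G g ⟶ (B.koszul L).K e q
  | [], e, q, hq, g, hg => eqToHom (by subst hq; simp at hg; subst hg; rfl)
  | _ :: L, e, q, hq, g, hg => topInv L (e+1) q hq g
      (by rw [hg, List.length_cons]; push_cast; ring) ≫ biprod.inr

lemma topInv_topMap : ∀ (L : List ι) (e q : ℤ) (hq : q = 0) (g : ℤ) (hg : g = e + L.length),
    B.topInv L e q hq g hg ≫ B.topMap L e q hq g hg = 𝟙 _
  | [], e, q, hq, g, hg => by simp [topInv, topMap]
  | m :: L, e, q, hq, g, hg => by
    have ih := topInv_topMap L (e+1) q hq g (by rw [hg, List.length_cons]; push_cast; ring)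
    have h2 : (biprod.inr : (B.koszul L).K (e+1) q ⟶
        (B.koszul L).K e (q+1) ⊞ (B.koszul L).K (e+1) q) ≫ biprod.snd = 𝟙 _ := biprod.inr_snd
    change (B.topInv L (e+1) q hq g _ ≫ (biprod.inr : (B.koszul L).K (e+1) q ⟶
        (B.koszul L).K e (q+1) ⊞ (B.koszul L).K (e+1) q)) ≫ biprod.snd ≫
          B.topMap L (e+1) q hq g _ = 𝟙 _
    rw [Category.assoc, reassoc_of% h2, ih]

/-- the top projection commutes with the operators. -/
lemma T_topMap (k : ι) : ∀ (L : List ι) (e q : ℤ) (hq : q = 0) (g g' : ℤ)
    (hg : g = e + L.length) (hg' : g' = e + 1 + L.length) (h : g' = g + 1),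
    (B.koszul L).T k e q ≫ B.topMap L (e+1) q hq g' hg' =
      B.topMap L e q hq g hg ≫ B.tE k g g' h
  | [], e, q, hq, g, g', hg, hg', h => by
    subst hq
    simp only [List.length_nil, Nat.cast_zero, add_zero] at hg hg'
    subst hg
    subst hg'
    simp only [topMap, eqToHom_refl, Category.comp_id, tE]
    rfl
  | m :: L, e, q, hq, g, g', hg, hg', h => by
    have ih := T_topMap k L (e+1) q hq g g' (by rw [hg, List.length_cons]; push_cast; ring)
      (by rw [hg', List.length_cons]; push_cast; ring) h
    simp only [topMap]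
    change biprod.map _ _ ≫ biprod.snd ≫ _ = _
    rw [biprod.map_snd_assoc, ih, Category.assoc]
    rfl

/-- the subgroup of sections of `G g` generated by the images of the operators. -/
noncomputable def imgT (g : ℤ) (W : X.Opens) : AddSubgroup Γ(B.G g, W) :=
  AddSubgroup.closure {y | ∃ (l : ι) (e : ℤ) (h : g = e + 1) (c : Γ(B.G e, W)),
    y = (B.tE l e g h).app W c}

/-- the image of the last differential of the Koszul system lies in the subgroup generated by
the images of the operators. -/
theorem topMap_d_mem : ∀ (L : List ι) (e p : ℤ) (hp : p + 1 = 0) (g : ℤ)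
    (hg : g = e + L.length) (W : X.Opens) (a : Γ((B.koszul L).K e p, W)),
    (B.topMap L e (p+1) hp g hg).app W (((B.koszul L).d e p).app W a) ∈ B.imgT g W
  | [], e, p, hp, g, hg, W, a => by
    have h0 : ((B.koszul []).d e p).app W a = 0 := rfl
    rw [h0, map_zero]
    exact zero_mem _
  | m :: L, e, p, hp, g, hg, W, a => by
    have hg1 : g = e + 1 + L.length := by rw [hg, List.length_cons]; push_cast; ring
    have ih := topMap_d_mem L (e+1) p hp g hg1 W
      ((biprod.snd : (B.koszul L).K e (p+1) ⊞ (B.koszul L).K (e+1) p ⟶ _).app W a)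
    have hT := B.T_topMap m L e (p+1) hp (g-1) g (by rw [hg1]; ring) hg1 (by ring)
    have h1 : (B.topMap (m :: L) e (p+1) hp g hg).app W (((B.koszul (m :: L)).d e p).app W a) =
        (B.topMap L (e+1) (p+1) hp g hg1).app W
          ((biprod.snd : (B.koszul L).K e (p+1+1) ⊞ (B.koszul L).K (e+1) (p+1) ⟶ _).app W
            ((((B.koszul L).cone m).d e p).app W a)) := rfl
    rw [h1, cone_d_snd, map_add]
    refine add_mem ?_ ih
    apply AddSubgroup.subset_closure
    refine ⟨m, g - 1, by ring, (B.topMap L e (p+1) hp (g-1) (by rw [hg1]; ring)).app W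
      ((biprod.fst : (B.koszul L).K e (p+1) ⊞ (B.koszul L).K (e+1) p ⟶ _).app W a), ?_⟩
    rw [← comp_app', ← comp_app', hT]
    rfl

end Base

end Groth.Agent.LD.KS
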